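import Groth.Agent.Goldman.Basic
import Groth.Agent.QHomeo.Basic
import Mathlib.AlgebraicGeometry.Noetherian
import Mathlib.AlgebraicGeometry.AffineScheme
import Mathlib.RingTheory.Spectrum.Prime.Topology
import Mathlib.Topology.KrullDimension
import Mathlib.Topology.Sober
import Mathlib.RingTheory.Spectrum.Prime.RingHom
import Mathlib.Topology.LocallyClosed

/-! Locally closed points of locally Noetherian schemes. -/

set_option autoImplicit false

open AlgebraicGeometry CategoryTheory Topology TopologicalSpace Set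

namespace Groth.Agent.Goldman

universe u

theorem finite_closure_spec {A : Type u} [CommRing A] [IsNoetherianRing A] {q : PrimeSpectrum A}
    (h : IsLocallyClosed ({q} : Set (PrimeSpectrum A))) :
    (closure ({q} : Set (PrimeSpectrum A))).Finite ∧
      ∀ r, q ⤳ r → r ≠ q → IsClosed ({r} : Set (PrimeSpectrum A)) := by
  let π := Ideal.Quotient.mk q.asIdeal
  let ψ := PrimeSpectrum.comap π
  have hψ := PrimeSpectrum.isClosedEmbedding_comap_of_surjective _ π Ideal.Quotient.mk_surjective
  have hr : range ψ = closure {q} := by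
    rw [range_comap_of_surjective _ π Ideal.Quotient.mk_surjective, Ideal.mk_ker,
      PrimeSpectrum.closure_singleton]
  let η : PrimeSpectrum (A ⧸ q.asIdeal) := ⟨⊥, Ideal.isPrime_bot⟩
  have hη : ψ η = q := PrimeSpectrum.ext (by
    change Ideal.comap π ⊥ = q.asIdeal
    exact Ideal.mk_ker)
  have hlc : IsLocallyClosed ({η} : Set _) := by
    have e : ψ ⁻¹' {q} = {η} := by
      ext r
      exact ⟨fun hr => hψ.injective ((mem_singleton_iff.mp hr).trans hη.symm),
        fun hr => (congrArg ψ (mem_singleton_iff.mp hr)).trans hη⟩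
    exact e ▸ h.preimage hψ.continuous
  have hop : IsOpen ({η} : Set _) := by
    obtain ⟨U, F, hU, hF, e⟩ := hlc
    have hF' : F = univ := by
      refine eq_univ_of_univ_subset ?_
      have h1 : closure ({η} : Set _) = univ := eq_univ_of_forall fun r =>
        ((PrimeSpectrum.le_iff_specializes η r).mp bot_le).mem_closure
      rw [← h1]
      exact closure_minimal (e ▸ inter_subset_right) hF
    rwa [e, hF', inter_univ]
  obtain ⟨f, hf0, hf⟩ := (exists_inAll_iff_isOpen (B := A ⧸ q.asIdeal)).mpr hop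
  obtain ⟨hmax, hfin⟩ := structure_of_inAll hf0 hf
  refine ⟨hr ▸ finite_range ψ, fun r hqr hne => ?_⟩
  obtain ⟨r', rfl⟩ : r ∈ range ψ := hr.symm ▸ hqr.mem_closure
  have hr' : r'.asIdeal ≠ ⊥ := fun he => hne (by rw [show r' = η from PrimeSpectrum.ext he, hη])
  have := hψ.isClosedMap _ ((PrimeSpectrum.isClosed_singleton_iff_isMaximal r').mpr (hmax _ r'.2 hr').2)
  rwa [image_singleton] at this

variable {X : Scheme.{u}} [IsLocallyNoetherian X]

theorem finite_closure_affine {x : X} (h : IsLocallyClosed ({x} : Set X)) {U : X.Opens}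
    (hU : IsAffineOpen U) (hx : x ∈ U) :
    (closure ({x} : Set X) ∩ (U : Set X)).Finite ∧
      ∀ r ∈ U, ∀ w ∈ U, x ⤳ r → r ≠ x → r ⤳ w → w = r := by
  haveI : IsNoetherianRing Γ(X, U) := IsLocallyNoetherian.component_noetherian ⟨U, hU⟩
  let e : ↥U ≃ₜ PrimeSpectrum Γ(X, U) := Scheme.homeoOfIso hU.isoSpec
  have hlc : IsLocallyClosed ({e ⟨x, hx⟩} : Set (PrimeSpectrum Γ(X, U))) := by
    have h1 : IsLocallyClosed ({(⟨x, hx⟩ : U)} : Set U) := by
      have := h.preimage (continuous_subtype_val (p := fun y => y ∈ U))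
      rwa [show ((Subtype.val : U → X) ⁻¹' {x}) = {(⟨x, hx⟩ : U)} by ext y; simp [Subtype.ext_iff]] at this
    have e' : e.symm ⁻¹' {(⟨x, hx⟩ : U)} = {e ⟨x, hx⟩} := by
      ext p; simp [Homeomorph.symm_apply_eq]
    exact e' ▸ h1.preimage e.symm.continuous
  obtain ⟨hfin, hcl⟩ := finite_closure_spec hlc
  constructor
  · refine (hfin.image fun p => (e.symm p).1).subset ?_
    rintro y ⟨hyc, hyU⟩
    refine ⟨e ⟨y, hyU⟩, ?_, by simp⟩
    exact ((subtype_specializes_iff ⟨x, hx⟩ ⟨y, hyU⟩).mpr
      (specializes_iff_mem_closure.mpr hyc)).map e.continuous |>.mem_closure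
  · intro r hr w hw hxr hne hrw
    have h1 := hcl (e ⟨r, hr⟩) (((subtype_specializes_iff ⟨x, hx⟩ ⟨r, hr⟩).mpr hxr).map e.continuous)
      (fun he => hne (congrArg Subtype.val (e.injective he)))
    have h2 := (((subtype_specializes_iff ⟨r, hr⟩ ⟨w, hw⟩).mpr hrw).map e.continuous).mem_closed h1 rfl
    exact congrArg Subtype.val (e.injective h2)

/-- A proper specialization of a locally closed point is closed. -/
theorem isClosed_of_specializes {x r : X} (h : IsLocallyClosed ({x} : Set X)) (hxr : x ⤳ r)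
    (hne : r ≠ x) : IsClosed ({r} : Set X) := by
  refine closure_subset_iff_isClosed.mp fun w hw => ?_
  have hrw : r ⤳ w := specializes_iff_mem_closure.mpr hw
  obtain ⟨_, ⟨U, hU, rfl⟩, hwU, -⟩ :=
    X.isBasis_affineOpens.exists_subset_of_mem_open (Set.mem_univ w) isOpen_univ
  have hrU : r ∈ U := hrw.mem_open U.isOpen hwU
  exact (finite_closure_affine h hU (hxr.mem_open U.isOpen hrU)).2 r hrU w hwU hxr hne hrw

theorem finite_closure [CompactSpace X] {x : X} (h : IsLocallyClosed ({x} : Set X)) :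
    (closure ({x} : Set X)).Finite := by
  obtain ⟨t, ht⟩ := isCompact_univ.elim_finite_subcover (fun U : X.affineOpens => (U.1 : Set X))
    (fun U => U.1.isOpen) fun y _ => by
      obtain ⟨_, ⟨U, hU, rfl⟩, hy, -⟩ :=
        X.isBasis_affineOpens.exists_subset_of_mem_open (Set.mem_univ y) isOpen_univ
      exact mem_iUnion.mpr ⟨⟨U, hU⟩, hy⟩
  refine (t.finite_toSet.biUnion (t := fun U => closure ({x} : Set X) ∩ (U.1 : Set X)) fun U _ => ?_).subset
    fun y hy => ?_
  · by_cases hx : x ∈ U.1
    · exact (finite_closure_affine h U.2 hx).1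
    · rw [Set.eq_empty_of_forall_notMem (s := closure ({x} : Set X) ∩ (U.1 : Set X)) fun y hy =>
        hx ((specializes_iff_mem_closure.mpr hy.1).mem_open U.1.isOpen hy.2)]
      exact finite_empty
  · obtain ⟨U, hU, hyU⟩ := mem_iUnion₂.mp (ht (mem_univ y))
    exact mem_iUnion₂.mpr ⟨U, hU, hy, hyU⟩

/-- Every nonempty locally closed subset contains a locally closed point. -/
theorem exists_lc_point {Z : Set X} (hZ : IsLocallyClosed Z) (hne : Z.Nonempty) :
    ∃ x ∈ Z, IsLocallyClosed ({x} : Set X) := by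
  obtain ⟨z, hz⟩ := hne
  obtain ⟨_, ⟨U, hU, rfl⟩, hzU, -⟩ :=
    X.isBasis_affineOpens.exists_subset_of_mem_open (Set.mem_univ z) isOpen_univ
  haveI : IsNoetherianRing Γ(X, U) := IsLocallyNoetherian.component_noetherian ⟨U, hU⟩
  haveI := noetherianSpace_of_isAffineOpen U hU
  obtain ⟨W, F, hW, hF, rfl⟩ := hZ
  let S : Set X := W ∩ F ∩ U
  have hSc : CompactSpace S := by
    haveI : NoetherianSpace S := @NoetherianSpace.of_subset _ _ (U : Set X) S (noetherianSpace_of_isAffineOpen U hU) inter_subset_right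
    infer_instance
  obtain ⟨⟨x, hxS⟩, -, hxc⟩ :=
    IsClosed.exists_closed_singleton (X := S) isClosed_univ ⟨⟨z, hz, hzU⟩, trivial⟩
  have hS : IsLocallyClosed S := ⟨W ∩ U, F, hW.inter U.isOpen, hF, inter_right_comm W F U⟩
  refine ⟨x, hxS.1, ?_⟩
  simpa using hxc.isLocallyClosed.image IsInducing.subtypeVal (by simpa using hS)

theorem jacobson_compl {Y : Set X} (hY : IsClosed Y)
    (hmeet : ∀ Z : Set X, IsClosed Z → Z.Nonempty → (Z ∩ Y).Nonempty) : JacobsonSpace ↥(Yᶜ) := by
  rw [jacobsonSpace_iff_locallyClosed]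
  intro t htne ht
  have hYo := hY.isOpen_compl
  obtain ⟨x, hxt, hxlc⟩ := exists_lc_point (ht.image IsInducing.subtypeVal
    (by rw [Subtype.range_coe]; exact hYo.isLocallyClosed)) (htne.image _)
  obtain ⟨⟨a, ha⟩, hat, rfl⟩ := hxt
  refine ⟨⟨a, ha⟩, hat, closure_subset_iff_isClosed.mp ?_⟩
  rintro ⟨w, hw⟩ hwc
  rw [closure_subtype, image_singleton] at hwc
  by_contra hne
  have hne' : w ≠ a := fun he => hne (Subtype.ext he)
  obtain ⟨y, rfl, hyY⟩ := hmeet {w} (isClosed_of_specializes hxlc (specializes_iff_mem_closure.mpr hwc) hne')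
    ⟨w, rfl⟩
  exact hw hyY

omit [IsLocallyNoetherian X] in
theorem dim_le_one_of [IrreducibleSpace X]
    (h : ∀ r : X, r ≠ genericPoint X → IsClosed ({r} : Set X)) : topologicalKrullDim X ≤ 1 := by
  unfold topologicalKrullDim
  rw [Order.krullDim_le_one_iff]
  intro C
  set c := C.isIrreducible'.genericPoint
  have hc : closure ({c} : Set X) = (C : Set X) := C.isIrreducible'.closure_genericPoint C.isClosed'
  by_cases he : c = genericPoint X
  · refine .inr fun D hD => ?_
    have huniv : (C : Set X) = univ := by rw [← hc, he, genericPoint_closure]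
    intro z _
    change z ∈ (C : Set X)
    rw [huniv]; trivial
  · refine .inl fun D hD => ?_
    have hsing : (C : Set X) = {c} := by rw [← hc, (h c he).closure_eq]
    intro z hz
    change z ∈ (C : Set X) at hz
    rw [hsing] at hz
    obtain ⟨d, hd⟩ := D.isIrreducible'.nonempty
    have hdC : d ∈ (C : Set X) := hD hd
    rw [hsing] at hdC
    rw [mem_singleton_iff.mp hz, ← mem_singleton_iff.mp hdC]
    exact hd

omit [IsLocallyNoetherian X] in
theorem isClosed_of_dim_le_one [IrreducibleSpace X] (h : topologicalKrullDim X ≤ 1) {r : X}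
    (hr : r ≠ genericPoint X) : IsClosed ({r} : Set X) := by
  unfold topologicalKrullDim at h
  rw [Order.krullDim_le_one_iff] at h
  refine closure_subset_iff_isClosed.mp fun w hw => ?_
  rcases h ⟨closure {r}, isIrreducible_singleton.closure, isClosed_closure⟩ with hmin | hmax
  · have := hmin (b := ⟨closure {w}, isIrreducible_singleton.closure, isClosed_closure⟩)
      (closure_minimal (singleton_subset_iff.mpr hw) isClosed_closure)
    exact (specializes_iff_mem_closure.mpr (this (subset_closure rfl))).antisymm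
      (specializes_iff_mem_closure.mpr hw) |>.eq
  · have := hmax (b := ⟨univ, IrreducibleSpace.isIrreducible_univ _, isClosed_univ⟩) (subset_univ _)
    exact absurd ((genericPoint_specializes r).antisymm
      (specializes_iff_mem_closure.mpr (this (mem_univ (genericPoint X))))).eq.symm hr

theorem jacobsonSpace_iff_lc_closed :
    JacobsonSpace X ↔ ∀ x : X, IsLocallyClosed ({x} : Set X) → IsClosed ({x} : Set X) := by
  rw [jacobsonSpace_iff_locallyClosed]
  constructor
  · intro h x hx
    obtain ⟨y, rfl, hy⟩ := h {x} ⟨x, rfl⟩ hx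
    exact hy
  · intro h Z hne hZ
    obtain ⟨x, hx, hxlc⟩ := exists_lc_point hZ hne
    exact ⟨x, hx, h x hxlc⟩

end Groth.Agent.Goldman
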