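import Mathlib.RingTheory.Jacobson.Ring
import Mathlib.RingTheory.Ideal.KrullsHeightTheorem
import Mathlib.RingTheory.Spectrum.Prime.Jacobson
import Mathlib.RingTheory.Algebraic.Integral
import Mathlib.RingTheory.LocalRing.ResidueField.Basic
import Mathlib.RingTheory.Ideal.Quotient.Operations
import Mathlib.RingTheory.KrullDimension.Zero
import Mathlib.RingTheory.KrullDimension.Field
import Mathlib.RingTheory.Localization.Away.Basic
import Mathlib.RingTheory.Localization.Away.AdjoinRoot
import Mathlib.RingTheory.FiniteType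
import Mathlib.RingTheory.ZMod

/-! Goldman domains, Artin–Tate theorem. -/

set_option autoImplicit false

open PrimeSpectrum

namespace Groth.Agent.Goldman

universe u

/-- `f` lies in every nonzero prime -/
def InAll {B : Type u} [CommRing B] (f : B) : Prop :=
  ∀ p : Ideal B, p.IsPrime → p ≠ ⊥ → f ∈ p

variable {B : Type u} [CommRing B] [IsDomain B]

lemma isField_away_of_inAll {f : B} (hf : f ≠ 0) (h : InAll f) : IsField (Localization.Away f) := by
  have hle : Submonoid.powers f ≤ nonZeroDivisors B :=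
    powers_le_nonZeroDivisors_of_noZeroDivisors hf
  haveI : IsDomain (Localization.Away f) := IsLocalization.isDomain_localization hle
  by_contra hnf
  obtain ⟨P, hP0, hP⟩ := Ring.not_isField_iff_exists_prime.mp hnf
  obtain ⟨hprime, hdisj⟩ := (IsLocalization.isPrime_iff_isPrime_disjoint (Submonoid.powers f) _ P).mp hP
  refine Set.disjoint_left.mp hdisj (Submonoid.mem_powers f) (h _ hprime fun h0 => hP0 ?_)
  have hmc := IsLocalization.map_comap (Submonoid.powers f) (Localization.Away f) P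
  rw [h0, Ideal.map_bot] at hmc
  exact hmc.symm

lemma inAll_of_isField_away {f : B} (hf : f ≠ 0) (h : IsField (Localization.Away f)) : InAll f := by
  intro p hp hp0
  by_contra hfp
  have hle : Submonoid.powers f ≤ nonZeroDivisors B :=
    powers_le_nonZeroDivisors_of_noZeroDivisors hf
  obtain ⟨a, hap, ha0⟩ := Submodule.exists_mem_ne_zero_of_ne_bot hp0
  have hd : Disjoint (Submonoid.powers f : Set B) (p : Set B) := by
    rw [Set.disjoint_left]
    rintro _ ⟨n, rfl⟩ hn
    exact hfp (hp.mem_of_pow_mem n hn)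
  have hP := IsLocalization.isPrime_of_isPrime_disjoint (Submonoid.powers f) (Localization.Away f) p hp hd
  have hne0 : (algebraMap B (Localization.Away f)) a ≠ 0 :=
    fun he => ha0 (IsLocalization.injective (Localization.Away f) hle (by simpa using he))
  obtain ⟨b, hb⟩ := h.mul_inv_cancel hne0
  refine hP.ne_top ((Ideal.eq_top_iff_one _).mpr ?_)
  rw [← hb]
  exact Ideal.mul_mem_right _ _ (Ideal.mem_map_of_mem _ hap)

lemma isField_away_iff : (∃ f : B, f ≠ 0 ∧ IsField (Localization.Away f)) ↔ ∃ f : B, f ≠ 0 ∧ InAll f :=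
  ⟨fun ⟨f, h0, h⟩ => ⟨f, h0, inAll_of_isField_away h0 h⟩,
    fun ⟨f, h0, h⟩ => ⟨f, h0, isField_away_of_inAll h0 h⟩⟩

lemma exists_inAll_iff_isOpen :
    (∃ f : B, f ≠ 0 ∧ InAll f) ↔ IsOpen ({⟨⊥, Ideal.bot_prime⟩} : Set (PrimeSpectrum B)) := by
  constructor
  · rintro ⟨f, h0, h⟩
    convert (basicOpen f).isOpen
    ext q
    simp only [Set.mem_singleton_iff, SetLike.mem_coe, mem_basicOpen]
    constructor
    · rintro rfl
      simpa using h0
    · intro hq
      by_contra hne
      exact hq (h q.asIdeal q.2 fun he => hne (PrimeSpectrum.ext he))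
  · intro h
    obtain ⟨_, ⟨f, rfl⟩, hf, hsub⟩ :=
      isTopologicalBasis_basic_opens.exists_subset_of_mem_open (Set.mem_singleton _) h
    have hf0 : f ≠ 0 := by simpa using hf
    refine ⟨f, hf0, fun p hp hp0 => ?_⟩
    by_contra hfp
    exact hp0 (congrArg asIdeal (hsub (show (⟨p, hp⟩ : PrimeSpectrum B) ∈ (basicOpen f : Set _) from hfp)))

lemma finiteType_fractionRing_of_isField_away {f : B} (hf : f ≠ 0)
    (h : IsField (Localization.Away f)) : Algebra.FiniteType B (FractionRing B) := by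
  have hle : Submonoid.powers f ≤ nonZeroDivisors B :=
    powers_le_nonZeroDivisors_of_noZeroDivisors hf
  have hu : ∀ m : Submonoid.powers f, IsUnit (Algebra.ofId B (FractionRing B) m) := fun m =>
    IsLocalization.map_units (FractionRing B) (⟨m, hle m.2⟩ : nonZeroDivisors B)
  let φ : Localization.Away f →ₐ[B] FractionRing B := IsLocalization.liftAlgHom hu
  refine Algebra.FiniteType.of_surjective φ fun x => ?_
  obtain ⟨a, b, hb, rfl⟩ := IsFractionRing.div_surjective B x
  have hb0 : algebraMap B (Localization.Away f) b ≠ 0 := fun he =>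
    nonZeroDivisors.ne_zero hb (IsLocalization.injective (Localization.Away f) hle (by simpa using he))
  obtain ⟨c, hc⟩ := h.mul_inv_cancel hb0
  refine ⟨algebraMap B _ a * c, ?_⟩
  have h1 : algebraMap B (FractionRing B) b * φ c = 1 := by
    rw [← φ.commutes b, ← map_mul, hc, map_one]
  rw [map_mul, AlgHom.commutes, eq_inv_of_mul_eq_one_right h1, div_eq_mul_inv]

lemma exists_isField_away_of_finiteType_field {K : Type u} [Field K] [Algebra B K]
    (hinj : Function.Injective (algebraMap B K)) [Algebra.FiniteType B K] :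
    ∃ f : B, f ≠ 0 ∧ IsField (Localization.Away f) := by
  classical
  haveI : Module.IsTorsionFree B K := Module.isTorsionFree_iff_algebraMap_injective.mpr hinj
  letI := (IsFractionRing.lift (K := FractionRing B) hinj).toAlgebra
  haveI : IsScalarTower B (FractionRing B) K := IsScalarTower.of_algebraMap_eq fun x =>
    (IsFractionRing.lift_algebraMap (K := FractionRing B) hinj x).symm
  haveI : Algebra.FiniteType (FractionRing B) K :=
    Algebra.FiniteType.of_restrictScalars_finiteType B _ _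
  haveI : Module.Finite (FractionRing B) K := finite_of_finite_type_of_isJacobsonRing _ _
  haveI halg : Algebra.IsAlgebraic B K :=
    (IsFractionRing.comap_isAlgebraic_iff (A := B) (K := FractionRing B) (C := K)).mpr inferInstance
  obtain ⟨s, hs⟩ := (Algebra.FiniteType.out : (⊤ : Subalgebra B K).FG)
  choose y hy0 hy using fun x : K => (Algebra.IsAlgebraic.isAlgebraic (R := B) x).exists_integral_multiple
  refine ⟨∏ x ∈ s, y x, Finset.prod_ne_zero_iff.mpr fun x _ => hy0 x, ?_⟩
  set f := ∏ x ∈ s, y x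
  have hf0 : f ≠ 0 := Finset.prod_ne_zero_iff.mpr fun x _ => hy0 x
  have hle : Submonoid.powers f ≤ nonZeroDivisors B := powers_le_nonZeroDivisors_of_noZeroDivisors hf0
  have hu : ∀ m : Submonoid.powers f, IsUnit (algebraMap B K m) := by
    rintro ⟨_, n, rfl⟩
    exact isUnit_iff_ne_zero.mpr fun he => (pow_ne_zero n hf0) (hinj (by simpa using he))
  let φ : Localization.Away f →+* K := IsLocalization.lift hu
  letI := φ.toAlgebra
  haveI : IsScalarTower B (Localization.Away f) K := IsScalarTower.of_algebraMap_eq fun x =>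
    (IsLocalization.lift_eq hu x).symm
  haveI : IsDomain (Localization.Away f) := IsLocalization.isDomain_localization hle
  have hφ : Function.Injective (algebraMap (Localization.Away f) K) := by
    refine (IsLocalization.lift_injective_iff hu).mpr fun a b => ?_
    constructor
    · intro h; exact congrArg _ (IsLocalization.injective _ hle h)
    · intro h; exact congrArg _ (hinj h)
  haveI : Algebra.IsIntegral (Localization.Away f) K := by
    refine ⟨fun z => ?_⟩
    have hz : z ∈ Algebra.adjoin B (s : Set K) := hs ▸ trivial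
    induction hz using Algebra.adjoin_induction with
    | algebraMap b => rw [IsScalarTower.algebraMap_apply B (Localization.Away f) K]; exact isIntegral_algebraMap
    | add a b _ _ ha hb => exact ha.add hb
    | mul a b _ _ ha hb => exact ha.mul hb
    | mem x hx =>
      obtain ⟨d, hd⟩ : y x ∣ f := Finset.dvd_prod_of_mem y hx
      have e : f • x = d • (y x • x) := by rw [smul_smul, mul_comm d, ← hd]
      have h1 : IsIntegral (Localization.Away f) (f • x) := by
        rw [e]
        exact ((hy x).smul d).tower_top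
      obtain ⟨v, hv⟩ := isUnit_iff_exists_inv'.mp
        (IsLocalization.map_units (Localization.Away f) (⟨f, Submonoid.mem_powers f⟩ : Submonoid.powers f))
      have : x = v • (f • x) := by
        rw [← IsScalarTower.algebraMap_smul (Localization.Away f) f x, smul_smul, hv, one_smul]
      rw [this]
      exact h1.smul v
  exact isField_of_isIntegral_of_isField hφ (Field.toIsField K)

section Noetherian

variable [IsNoetherianRing B]

omit [IsDomain B] in
lemma exists_height_le_one_le {a : B} {q : Ideal B} (hq : q.IsPrime) (ha : a ∈ q) :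
    ∃ p : Ideal B, p.IsPrime ∧ a ∈ p ∧ p ≤ q ∧ p.height ≤ 1 := by
  haveI := hq
  obtain ⟨p, hp, hpq⟩ := Ideal.exists_minimalPrimes_le
    ((Ideal.span_singleton_le_iff_mem q).mpr ha)
  haveI := hp.1.1
  exact ⟨p, hp.1.1, (Ideal.span_singleton_le_iff_mem p).mp hp.1.2, hpq,
    Ideal.height_le_one_of_isPrincipal_of_mem_minimalPrimes _ p hp⟩

lemma structure_of_inAll {f : B} (hf : f ≠ 0) (h : InAll f) :
    (∀ q : Ideal B, q.IsPrime → q ≠ ⊥ → q ∈ (Ideal.span {f}).minimalPrimes ∧ q.IsMaximal) ∧
      Finite (PrimeSpectrum B) := by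
  classical
  have small : ∀ p : Ideal B, p.IsPrime → p ≠ ⊥ → p.height ≤ 1 → p ∈ (Ideal.span {f}).minimalPrimes := by
    intro p hp hp0 hh
    refine ⟨⟨hp, (Ideal.span_singleton_le_iff_mem p).mpr (h p hp hp0)⟩, fun r hr hle => ?_⟩
    haveI := hr.1
    haveI := hp
    have hr0 : r ≠ ⊥ := fun he => hf (by simpa [he] using hr.2)
    by_contra hne
    have hlt : r < p := lt_of_le_of_ne hle fun he => hne (le_of_eq he.symm)
    haveI : Ideal.IsPrime (⊥ : Ideal B) := Ideal.bot_prime
    have h1 : (⊥ : Ideal B).height < r.height := Ideal.height_strict_mono_of_isPrime (bot_lt_iff_ne_bot.mpr hr0)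
    have h2 := Ideal.height_strict_mono_of_isPrime hlt
    have h3 : (1 : ℕ∞) ≤ r.height := Order.one_le_iff_pos.mpr (lt_of_le_of_lt bot_le h1)
    exact absurd (lt_of_le_of_lt h3 (lt_of_lt_of_le h2 hh)) (lt_irrefl _)
  have hfin := Ideal.finite_minimalPrimes_of_isNoetherianRing B (Ideal.span {f})
  have key : ∀ q : Ideal B, q.IsPrime → q ≠ ⊥ → q ∈ (Ideal.span {f}).minimalPrimes := by
    intro q hq hq0
    have hsub : (q : Set B) ⊆ ⋃ p ∈ hfin.toFinset.filter (· ≤ q), (p : Set B) := by
      intro a ha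
      have hcov : ∀ b ∈ q, b ≠ 0 → b ∈ ⋃ p ∈ hfin.toFinset.filter (· ≤ q), (p : Set B) := by
        intro b hb hb0
        obtain ⟨p, hp, hbp, hpq, hph⟩ := exists_height_le_one_le hq hb
        have hp0 : p ≠ ⊥ := fun he => hb0 (by simpa [he] using hbp)
        exact Set.mem_biUnion (Finset.mem_filter.mpr ⟨hfin.mem_toFinset.mpr (small p hp hp0 hph), hpq⟩) hbp
      by_cases ha0 : a = 0
      · obtain ⟨b, hb, hb0⟩ := Submodule.exists_mem_ne_zero_of_ne_bot hq0
        obtain ⟨p, hp, -⟩ := Set.mem_iUnion₂.mp (hcov b hb hb0)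
        exact Set.mem_biUnion hp (ha0 ▸ p.zero_mem)
      · exact hcov a ha ha0
    obtain ⟨p, hp, hqp⟩ := (Ideal.subset_union_prime ⊥ ⊥ (fun p hp _ _ =>
      (hfin.mem_toFinset.mp (Finset.mem_filter.mp hp).1).1.1)).mp hsub
    have hp' := Finset.mem_filter.mp hp
    rw [le_antisymm hqp hp'.2]
    exact hfin.mem_toFinset.mp hp'.1
  refine ⟨fun q hq hq0 => ⟨key q hq hq0, ?_⟩, ?_⟩
  · obtain ⟨m, hm, hqm⟩ := Ideal.exists_le_maximal q hq.ne_top
    have hm0 : m ≠ ⊥ := fun he => hq0 (le_bot_iff.mp (he ▸ hqm))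
    rw [le_antisymm hqm ((key m hm.isPrime hm0).2 (key q hq hq0).1 hqm)]
    exact hm
  · haveI := ((hfin.insert (⊥ : Ideal B))).to_subtype
    refine Finite.of_injective (fun q : PrimeSpectrum B =>
      (⟨q.asIdeal, ?_⟩ : ↥(insert (⊥ : Ideal B) (Ideal.span {f}).minimalPrimes))) ?_
    · by_cases h0 : q.asIdeal = ⊥
      · exact Or.inl h0
      · exact Or.inr (key q.asIdeal q.2 h0)
    · exact fun q r e => PrimeSpectrum.ext (congrArg Subtype.val e)

lemma exists_inAll_of_finite_spectrum [Finite (PrimeSpectrum B)] : ∃ f : B, f ≠ 0 ∧ InAll f := by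
  classical
  cases nonempty_fintype (PrimeSpectrum B)
  have hch : ∀ q : {q : PrimeSpectrum B // q.asIdeal ≠ ⊥}, ∃ a ∈ q.1.asIdeal, a ≠ 0 :=
    fun q => Submodule.exists_mem_ne_zero_of_ne_bot q.2
  choose a ha ha0 using hch
  refine ⟨∏ q, a q, Finset.prod_ne_zero_iff.mpr fun q _ => ha0 q, fun p hp hp0 => ?_⟩
  exact Ideal.mem_of_dvd p (Finset.dvd_prod_of_mem a (Finset.mem_univ ⟨⟨p, hp⟩, hp0⟩)) (ha ⟨⟨p, hp⟩, hp0⟩)

lemma exists_inAll_of_semilocal [Finite (MaximalSpectrum B)]
    (hdim : ∀ q : Ideal B, q.IsPrime → q ≠ ⊥ → q.IsMaximal) : ∃ f : B, f ≠ 0 ∧ InAll f := by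
  classical
  cases nonempty_fintype (MaximalSpectrum B)
  have hch : ∀ q : {q : MaximalSpectrum B // q.asIdeal ≠ ⊥}, ∃ a ∈ q.1.asIdeal, a ≠ 0 :=
    fun q => Submodule.exists_mem_ne_zero_of_ne_bot q.2
  choose a ha ha0 using hch
  refine ⟨∏ q, a q, Finset.prod_ne_zero_iff.mpr fun q _ => ha0 q, fun p hp hp0 => ?_⟩
  exact Ideal.mem_of_dvd p (Finset.dvd_prod_of_mem a (Finset.mem_univ ⟨⟨p, hdim p hp hp0⟩, hp0⟩))
    (ha ⟨⟨p, hdim p hp hp0⟩, hp0⟩)

omit [IsNoetherianRing B] in
lemma dim_le_one_iff : ringKrullDim B ≤ 1 ↔ ∀ q : Ideal B, q.IsPrime → q ≠ ⊥ → q.IsMaximal := by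
  rw [show ((1 : WithBot ℕ∞)) = ((1 : ℕ) : WithBot ℕ∞) from rfl, ← Ring.krullDimLE_iff,
    Ring.krullDimLE_one_iff_of_noZeroDivisors]
  exact ⟨fun h q hq hq0 => h q hq0 hq, fun h q hq0 hq => h q hq hq0⟩

lemma dim_eq_one_iff : ringKrullDim B = 1 ↔
    ¬ IsField B ∧ ∀ q : Ideal B, q.IsPrime → q ≠ ⊥ → q.IsMaximal := by
  constructor
  · intro h
    refine ⟨fun hF => ?_, dim_le_one_iff.mp h.le⟩
    rw [ringKrullDim_eq_zero_of_isField hF] at h
    exact zero_ne_one h
  · rintro ⟨h1, h2⟩
    refine le_antisymm (dim_le_one_iff.mpr h2) ?_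
    obtain ⟨m, hm0, hm⟩ := Ring.not_isField_iff_exists_prime.mp h1
    haveI := hm
    haveI : Ideal.IsPrime (⊥ : Ideal B) := Ideal.isPrime_bot
    calc (1 : WithBot ℕ∞) ≤ (m.height : WithBot ℕ∞) := by
          refine WithBot.one_le_coe.mpr (Order.one_le_iff_pos.mpr ?_)
          exact lt_of_le_of_lt bot_le (Ideal.height_strict_mono_of_isPrime (bot_lt_iff_ne_bot.mpr hm0))
      _ ≤ ringKrullDim B := Ideal.height_le_ringKrullDim_of_ne_top hm.ne_top

end Noetherian

end Groth.Agent.Goldman
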